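import Mathlib.NumberTheory.Bertrand
import Mathlib.NumberTheory.Primorial
import Mathlib.Data.Nat.Choose.Factorization
import Mathlib.Tactic

/-!
The theorem of Sylvester and Schur: for `2 k ≤ n` the binomial coefficient `n.choose k` has a prime
divisor greater than `k`.
-/

set_option autoImplicit false

namespace Cfsg.Agent.AltDerange

open Finset

/-- The number of primes at most `x`. -/
def pc (x : ℕ) : ℕ := ((range (x + 1)).filter Nat.Prime).card

theorem pc_succ (x : ℕ) : pc (x + 1) = pc x + if (x + 1).Prime then 1 else 0 := by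
  unfold pc
  rw [range_add_one (n := x + 1), filter_insert]
  split_ifs with h
  · rw [card_insert_of_notMem (by simp)]
  · rfl

theorem pc_le_third (x : ℕ) : pc x ≤ x / 3 + 2 := by
  unfold pc
  set S := (range (x + 1)).filter Nat.Prime with hS
  have h1 : S.card ≤ ({2, 3} : Finset ℕ).card + (S.filter (fun p => 5 ≤ p)).card := by
    refine (card_le_card fun p hp => ?_).trans (card_union_le _ _)
    have hpp := (mem_filter.1 (hS ▸ hp)).2
    by_cases h5 : 5 ≤ p
    · exact mem_union_right _ (mem_filter.2 ⟨hp, h5⟩)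
    · refine mem_union_left _ ?_
      have := hpp.two_le
      interval_cases p
      · simp
      · simp
      · exact absurd hpp (by norm_num)
  have h2 : (S.filter (fun p => 5 ≤ p)).card ≤ (Icc 1 (x / 3)).card := by
    refine card_le_card_of_injOn (fun p => p / 3) (fun p hp => ?_) (fun a ha b hb hab => ?_)
    · obtain ⟨hp, h5⟩ := mem_filter.1 hp
      obtain ⟨hp, hpp⟩ := mem_filter.1 (hS ▸ hp)
      have hlt := mem_range.1 hp
      simp only [coe_Icc, Set.mem_Icc]
      omega
    · obtain ⟨ha, ha5⟩ := mem_filter.1 ha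
      obtain ⟨hb, hb5⟩ := mem_filter.1 hb
      have hpa := (mem_filter.1 (hS ▸ ha)).2
      have hpb := (mem_filter.1 (hS ▸ hb)).2
      have a2 := hpa.eq_two_or_odd.resolve_left (by omega)
      have b2 := hpb.eq_two_or_odd.resolve_left (by omega)
      have a3 : a % 3 ≠ 0 := fun h => by
        have := (Nat.prime_dvd_prime_iff_eq Nat.prime_three hpa).1 (Nat.dvd_of_mod_eq_zero h)
        omega
      have b3 : b % 3 ≠ 0 := fun h => by
        have := (Nat.prime_dvd_prime_iff_eq Nat.prime_three hpb).1 (Nat.dvd_of_mod_eq_zero h)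
        omega
      simp only at hab
      omega
  rw [Nat.card_Icc] at h2
  have h3 : ({2, 3} : Finset ℕ).card = 2 := rfl
  omega

/-- All prime divisors of `n.choose k` are at most `k`. -/
def Smooth (n k : ℕ) : Prop := ∀ p : ℕ, p.Prime → p ∣ n.choose k → p ≤ k

theorem eq_zero_of_large {n k p : ℕ} (h : Smooth n k) (hkp : k < p) :
    (n.choose k).factorization p = 0 := by
  by_contra hne
  have hm : p ∈ (n.choose k).primeFactors := by
    rw [← Nat.support_factorization]
    exact Finsupp.mem_support_iff.2 hne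
  have := h p (Nat.prime_of_mem_primeFactors hm) (Nat.dvd_of_mem_primeFactors hm)
  omega

theorem choose_le_pow_pc {n k : ℕ} (h : Smooth n k) (hkn : k ≤ n) (hn : 0 < n) :
    n.choose k ≤ n ^ pc k := by
  have e : ∏ p ∈ (range (k + 1)).filter Nat.Prime, p ^ (n.choose k).factorization p = n.choose k := by
    conv_rhs => rw [← Nat.prod_pow_factorization_choose n k hkn]
    refine prod_subset (fun p hp => ?_) (fun p _ hp => ?_)
    · simp only [mem_filter, mem_range] at hp ⊢
      omega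
    · by_cases hpp : p.Prime
      · have : k < p := by
          by_contra hle
          exact hp (mem_filter.2 ⟨mem_range.2 (by omega), hpp⟩)
        rw [eq_zero_of_large h this, pow_zero]
      · rw [Nat.factorization_eq_zero_of_not_prime _ hpp, pow_zero]
  calc n.choose k = _ := e.symm
    _ ≤ ∏ _p ∈ (range (k + 1)).filter Nat.Prime, n :=
      prod_le_prod' fun p _ => Nat.pow_factorization_choose_le hn
    _ = n ^ pc k := by rw [prod_const]; rfl

theorem choose_le_split {n k : ℕ} (hkn : k ≤ n) (hn : 0 < n) (B : ℕ)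
    (hB : ∀ p, B < p → Nat.sqrt n < p → (n.choose k).factorization p = 0) :
    n.choose k ≤ n ^ pc (Nat.sqrt n) * 4 ^ B := by
  set e := fun p => p ^ (n.choose k).factorization p with he
  set S := (range (n + 1)).filter Nat.Prime with hS
  have e1 : ∏ p ∈ S, e p = n.choose k := by
    conv_rhs => rw [← Nat.prod_pow_factorization_choose n k hkn]
    refine prod_subset (filter_subset _ _) fun p hp hp' => ?_
    have hpp : ¬ p.Prime := fun h => hp' (mem_filter.2 ⟨hp, h⟩)
    show p ^ _ = 1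
    rw [Nat.factorization_eq_zero_of_not_prime _ hpp, pow_zero]
  rw [← e1, ← prod_filter_mul_prod_filter_not S (· ≤ Nat.sqrt n)]
  refine Nat.mul_le_mul ?_ ?_
  · refine (prod_le_prod' fun p _ => (Nat.pow_factorization_choose_le hn : e p ≤ n)).trans ?_
    rw [prod_const]
    refine Nat.pow_le_pow_right hn (card_le_card fun p hp => ?_)
    simp only [hS, mem_filter, mem_range] at hp ⊢
    exact ⟨by omega, hp.1.2⟩
  · refine le_trans ?_ (primorial_le_four_pow B)
    set T := S.filter (fun p => ¬ p ≤ Nat.sqrt n) with hT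
    have e2 : ∏ p ∈ T.filter (· ≤ B), e p = ∏ p ∈ T, e p := by
      refine prod_subset (filter_subset _ _) fun p hp hp' => ?_
      have h1 : ¬ p ≤ B := fun h => hp' (mem_filter.2 ⟨hp, h⟩)
      have h2 := (mem_filter.1 hp).2
      show p ^ _ = 1
      rw [hB p (by omega) (by omega), pow_zero]
    rw [← e2]
    refine (prod_le_prod' fun p hp => (?_ : e p ≤ p)).trans ?_
    · obtain ⟨hp, -⟩ := mem_filter.1 hp
      obtain ⟨hp, h2⟩ := mem_filter.1 hp
      have hpp := (mem_filter.1 hp).2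
      refine (Nat.pow_le_pow_right hpp.pos ?_).trans (pow_one p).le
      exact Nat.factorization_choose_le_one (Nat.sqrt_lt'.1 (not_le.1 h2))
    · refine prod_le_prod_of_subset_of_one_le' (fun p hp => ?_) (fun p hp _ => ?_)
      · simp only [hT, hS, mem_filter, mem_range] at hp ⊢
        exact ⟨by omega, hp.1.1.2⟩
      · exact (mem_filter.1 hp).2.one_lt.le

theorem lower {n k : ℕ} (hk : 4 ≤ k) (hn : 2 * k ≤ n) :
    2 ^ k * n ^ k < k ^ (k + 1) * n.choose k := by
  have hd : (2 * k).descFactorial k * n ^ k ≤ n.descFactorial k * (2 * k) ^ k := by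
    rw [Nat.descFactorial_eq_prod_range, Nat.descFactorial_eq_prod_range]
    have : ∀ m : ℕ, m ^ k = ∏ _i ∈ range k, m := fun m => by rw [prod_const, card_range]
    rw [this n, this (2 * k), ← prod_mul_distrib, ← prod_mul_distrib]
    refine prod_le_prod' fun i hi => ?_
    have hik := mem_range.1 hi
    rw [Nat.sub_mul, Nat.sub_mul, mul_comm (2 * k) n]
    exact Nat.sub_le_sub_left (Nat.mul_le_mul_left _ hn) _
  rw [Nat.descFactorial_eq_factorial_mul_choose, Nat.descFactorial_eq_factorial_mul_choose,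
    mul_assoc, mul_assoc] at hd
  have hd' := Nat.le_of_mul_le_mul_left hd (Nat.factorial_pos k)
  have hc := Nat.four_pow_lt_mul_centralBinom k hk
  rw [Nat.centralBinom_eq_two_mul_choose] at hc
  have hpos : 0 < n ^ k := Nat.pow_pos (by omega)
  have e1 : 2 ^ k * (2 ^ k * n ^ k) = 4 ^ k * n ^ k := by rw [← mul_assoc, ← mul_pow]; rfl
  have e2 : k * (n.choose k * (2 * k) ^ k) = 2 ^ k * (k ^ (k + 1) * n.choose k) := by
    rw [mul_pow, pow_succ]; ring
  have h4 : 4 ^ k * n ^ k < k * ((2 * k).choose k * n ^ k) := by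
    rw [← mul_assoc]
    exact Nat.mul_lt_mul_of_pos_right hc hpos
  have h5 := h4.trans_le (Nat.mul_le_mul_left k hd')
  rw [← e1, e2] at h5
  exact Nat.lt_of_mul_lt_mul_left h5

/-- The inequality refuting smoothness. -/
theorem not_smooth_of_ineq {n k c : ℕ} (hk : 4 ≤ k) (hn : 2 * k ≤ n) (hc : pc k ≤ c)
    (h : k ^ (k + 1) * n ^ c ≤ 2 ^ k * n ^ k) : ¬ Smooth n k := fun hs => by
  have h1 := lower hk hn
  have h2 := (choose_le_pow_pc hs (by omega) (by omega)).trans (Nat.pow_le_pow_right (by omega) hc)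
  have h3 := Nat.mul_le_mul_left (k ^ (k + 1)) h2
  omega

theorem pow_sq_compare {k c n₀ n : ℕ} (hck : c ≤ k) (hn : n₀ ≤ n) (hn0 : 0 < n₀)
    (h : k ^ (k + 1) * n₀ ^ c ≤ 2 ^ k * n₀ ^ k) : k ^ (k + 1) * n ^ c ≤ 2 ^ k * n ^ k := by
  have e : ∀ m : ℕ, m ^ k = m ^ (k - c) * m ^ c := fun m => by rw [← pow_add, Nat.sub_add_cancel hck]
  rw [e n₀, ← mul_assoc] at h
  rw [e n, ← mul_assoc]
  have := Nat.le_of_mul_le_mul_right h (Nat.pow_pos hn0)
  exact Nat.mul_le_mul_right _ (this.trans (Nat.mul_le_mul_left _ (Nat.pow_le_pow_left hn _)))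

theorem pow_bound {x y : ℕ} (h : x ≤ y) (a : ℕ) : x ^ a ≤ y ^ a := Nat.pow_le_pow_left h a

theorem log_facts {u : ℕ} (hu : 64 ≤ u) :
    u < 2 ^ (Nat.log 2 u + 1) ∧ 8 * (Nat.log 2 u + 1) ≤ u ∧
      (70 ≤ u → 10 * (Nat.log 2 u + 1) ≤ u) ∧ (Nat.log 2 u + 1) ^ 3 ≤ 8 * u := by
  refine ⟨Nat.lt_pow_succ_log_self (by norm_num) u, ?_⟩
  set l := Nat.log 2 u
  have hl : 6 ≤ l := Nat.le_log_of_pow_le (by norm_num) (by norm_num; omega)
  have hle : 2 ^ l ≤ u := Nat.pow_log_le_self 2 (by omega)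
  have a1 : ∀ m, 6 ≤ m → 8 * (m + 1) ≤ 2 ^ m ∧ (m + 1) ^ 3 ≤ 8 * 2 ^ m := by
    intro m hm
    induction m, hm using Nat.le_induction with
    | base => norm_num
    | succ m hm ih =>
      refine ⟨by rw [pow_succ]; omega, ?_⟩
      rw [pow_succ 2 m]
      have : (m + 1 + 1) ^ 3 ≤ 2 * (m + 1) ^ 3 := by
        nlinarith [Nat.mul_le_mul hm hm, Nat.mul_le_mul (Nat.mul_le_mul hm hm) hm]
      omega
  refine ⟨(a1 l hl).1.trans hle, fun h70 => ?_, (a1 l hl).2.trans (Nat.mul_le_mul_left 8 hle)⟩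
  rcases Nat.eq_or_lt_of_le hl with h | h
  · omega
  · have : ∀ m, 7 ≤ m → 10 * (m + 1) ≤ 2 ^ m := by
      intro m hm
      induction m, hm using Nat.le_induction with
      | base => norm_num
      | succ m hm ih => rw [pow_succ]; omega
    exact (this l h).trans hle

theorem exp_a {X u n k : ℕ} (hu : 64 ≤ u) (hX : 24 * X ≤ u * u + 9 * u) (hn : u * u ≤ n)
    (h3 : n < 3 * k) (h5 : 2 * n < 5 * k) : 2 * X + 2 * (n / 3) ≤ 2 * k := by
  have h1 : 27 * u ≤ u * u := Nat.mul_le_mul_right u (by omega)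
  generalize u * u = w at *
  omega

theorem exp_b {X u n k : ℕ} (hu : 64 ≤ u) (hX : 24 * X ≤ u * u + 9 * u) (hn : u * u ≤ n)
    (h3 : n < 3 * k) : 2 * X ≤ 7 * (k / 22) := by
  have h1 : 64 * u ≤ u * u := Nat.mul_le_mul_right u hu
  generalize u * u = w at *
  omega

theorem exp_c {X u n k : ℕ} (hu : 78 ≤ u) (hX : 30 * X ≤ u * u + 9 * u) (hn : u * u ≤ n)
    (h6 : n < 6 * k) : 4 * X + 1 ≤ k := by
  have h1 : 78 * u ≤ u * u := Nat.mul_le_mul_right u hu
  generalize u * u = w at *
  omega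

theorem exp_d {X u l k : ℕ} (hu : 110 ≤ u) (hX : 3 * X ≤ l * (u + 9)) (hl : l ^ 3 ≤ 8 * u)
    (h1l : 1 ≤ l) (hk : u * u * (u * u) < k ^ 3) : 4 * X + 3 ≤ 3 * k := by
  have h24 : 2 * (4 * X + 3) ≤ 3 * (u * l) := by
    have h2 : 24 * X + 18 ≤ 9 * (u * l) := by
      have : 110 * l ≤ u * l := Nat.mul_le_mul_right l hu
      rw [Nat.mul_add, Nat.mul_comm l u] at hX
      omega
    omega
  by_contra hlt
  have a : (2 * (4 * X + 3)) ^ 3 ≤ (3 * (u * l)) ^ 3 := Nat.pow_le_pow_left h24 _
  have b : (3 * k) ^ 3 ≤ (4 * X + 3) ^ 3 := Nat.pow_le_pow_left (by omega) _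
  have c : u ^ 3 * l ^ 3 ≤ u ^ 3 * (8 * u) := Nat.mul_le_mul_left _ hl
  rw [mul_pow, mul_pow, mul_pow] at a
  rw [mul_pow] at b
  have e : u ^ 3 * (8 * u) = 8 * (u * u * (u * u)) := by ring
  rw [e] at c
  generalize u * u * (u * u) = w at *
  generalize u ^ 3 * l ^ 3 = y at *
  generalize (4 * X + 3) ^ 3 = z at *
  omega

theorem four_pow_split {k a : ℕ} (h : a ≤ 7 * (k / 22)) : 2 ^ a * 4 ^ k ≤ 5 ^ k := by
  have hq : k = 22 * (k / 22) + k % 22 := (Nat.div_add_mod k 22).symm
  generalize k / 22 = q at h hq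
  generalize k % 22 = r at hq
  subst hq
  refine (Nat.mul_le_mul_right _ (Nat.pow_le_pow_right (by norm_num) h)).trans ?_
  rw [pow_add, pow_add, pow_mul, pow_mul, pow_mul, ← mul_assoc, ← mul_pow]
  exact Nat.mul_le_mul (Nat.pow_le_pow_left (by norm_num) _) (Nat.pow_le_pow_left (by norm_num) _)

theorem sq_bound_b {X k : ℕ} (h : 4 * X + 1 ≤ k) : 2 ^ (2 * X) * 4 ^ k ≤ 6 ^ k := by
  have hsq : (2 ^ (2 * X) * 2 ^ k) ^ 2 ≤ (3 ^ k) ^ 2 := by
    rw [← pow_add, ← pow_mul, ← pow_mul, pow_mul 3, ← pow_mul, mul_comm k 2, pow_mul 3]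
    calc 2 ^ ((2 * X + k) * 2) ≤ 2 ^ (3 * k) := Nat.pow_le_pow_right (by norm_num) (by omega)
      _ = (2 ^ 3) ^ k := pow_mul 2 3 k
      _ ≤ (3 ^ 2) ^ k := Nat.pow_le_pow_left (by norm_num) _
  have e := (Nat.pow_le_pow_iff_left (by norm_num : (2 : ℕ) ≠ 0)).1 hsq
  rw [show (4 : ℕ) = 2 * 2 by rfl, mul_pow, ← mul_assoc, show (6 : ℕ) = 3 * 2 by rfl, mul_pow]
  exact Nat.mul_le_mul_right _ e

theorem sq_bound_d {X k : ℕ} (h : 4 * X + 3 ≤ 3 * k) : 2 ^ (2 * X) * 4 ^ k ≤ 12 ^ k := by
  have hsq : (2 ^ (2 * X)) ^ 2 ≤ (3 ^ k) ^ 2 := by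
    rw [← pow_mul, ← pow_mul, mul_comm k 2, pow_mul 3]
    calc 2 ^ (2 * X * 2) ≤ 2 ^ (3 * k) := Nat.pow_le_pow_right (by norm_num) (by omega)
      _ = (2 ^ 3) ^ k := pow_mul 2 3 k
      _ ≤ (3 ^ 2) ^ k := Nat.pow_le_pow_left (by norm_num) _
  rw [show (12 : ℕ) = 3 * 4 by rfl, mul_pow]
  exact Nat.mul_le_mul_right _ ((Nat.pow_le_pow_iff_left (by norm_num : (2 : ℕ) ≠ 0)).1 hsq)

theorem not_smooth_large {n k : ℕ} (hk : 2048 ≤ k) (hn : 2 * k ≤ n) : ¬ Smooth n k := by
  intro hs
  by_cases hd : k ^ 3 ≤ n ^ 2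
  · refine not_smooth_of_ineq (by omega) hn le_rfl ?_ hs
    have hπ := pc_le_third k
    have hπk : pc k ≤ k := by omega
    have h0 : (k ^ (k + 1) * n ^ pc k) ^ 2 ≤ (2 ^ k * n ^ k) ^ 2 := by
      have e2 : (2 ^ k * n ^ k) ^ 2 = 4 ^ k * ((n ^ 2) ^ (k - pc k) * (n ^ 2) ^ pc k) := by
        rw [← pow_add, Nat.sub_add_cancel hπk, mul_pow, ← pow_mul 2, mul_comm k 2, pow_mul 2,
          ← pow_mul n, mul_comm k 2, pow_mul n]
        norm_num
      have e1 : (k ^ (k + 1) * n ^ pc k) ^ 2 = k ^ (2 * k + 2) * (n ^ 2) ^ pc k := by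
        rw [mul_pow, ← pow_mul, ← pow_mul, ← pow_mul]
        congr 1 <;> ring_nf
      rw [e1, e2, ← mul_assoc]
      refine Nat.mul_le_mul_right _ ?_
      have h1 : (k ^ 3) ^ (k - pc k) ≤ (n ^ 2) ^ (k - pc k) := Nat.pow_le_pow_left hd _
      have h2 : k ^ (2 * k - 6) ≤ (k ^ 3) ^ (k - pc k) := by
        rw [← pow_mul]
        exact Nat.pow_le_pow_right (by omega) (by omega)
      have h3 : k ^ 8 ≤ 4 ^ k := by
        have ha : k < 2 ^ (Nat.log 2 k + 1) := Nat.lt_pow_succ_log_self (by norm_num) k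
        have hb := (log_facts (u := k) (by omega)).2.1
        calc k ^ 8 ≤ (2 ^ (Nat.log 2 k + 1)) ^ 8 := Nat.pow_le_pow_left ha.le _
          _ = 2 ^ (8 * (Nat.log 2 k + 1)) := by rw [← pow_mul, mul_comm]
          _ ≤ 2 ^ (2 * k) := Nat.pow_le_pow_right (by norm_num) (by omega)
          _ = 4 ^ k := by rw [pow_mul]; norm_num
      have e3 : k ^ (2 * k + 2) = k ^ 8 * k ^ (2 * k - 6) := by rw [← pow_add]; congr 1; omega
      rw [e3]
      exact Nat.mul_le_mul h3 (h2.trans h1)
    exact (Nat.pow_le_pow_iff_left (by norm_num)).1 h0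
  push Not at hd
  set u := Nat.sqrt n with hu
  have hu2 : u * u ≤ n := Nat.sqrt_le n
  have hu3 : n < (u + 1) * (u + 1) := Nat.lt_succ_sqrt n
  have hu64 : 64 ≤ u := Nat.le_sqrt.2 (by omega)
  obtain ⟨hlog, h8, h10, hcube⟩ := log_facts hu64
  set l1 := Nat.log 2 u + 1 with hl1
  have hπ := pc_le_third u
  set s1 := pc u + 1 with hs1
  set X := l1 * s1 with hX
  have hX3 : 3 * X ≤ l1 * (u + 9) := by
    rw [hX, Nat.mul_left_comm]
    exact Nat.mul_le_mul_left _ (by omega)
  have hnb : n ≤ 2 ^ (2 * l1) := by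
    rw [two_mul, pow_add]
    exact (Nat.le_of_lt hu3).trans (Nat.mul_le_mul hlog hlog)
  have hkns : k * n ^ pc u ≤ 2 ^ (2 * X) := by
    refine (Nat.mul_le_mul_right _ (show k ≤ n by omega)).trans ?_
    rw [← pow_succ', hX, ← mul_assoc, pow_mul]
    exact Nat.pow_le_pow_left hnb _
  have hlow := lower (by omega : 4 ≤ k) hn
  have hk0 : 0 < k ^ k := Nat.pow_pos (by omega)
  -- it suffices to bound `2 ^ (2 X) * 4 ^ B`
  have reduce : ∀ B, (∀ p, B < p → u < p → (n.choose k).factorization p = 0) →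
      k ^ k * (2 ^ (2 * X) * 4 ^ B) ≤ 2 ^ k * n ^ k → False := by
    intro B hB hineq
    have h1 := Nat.mul_le_mul_left (k ^ (k + 1)) (choose_le_split (by omega) (by omega) B hB)
    have h2 : k ^ (k + 1) * (n ^ pc u * 4 ^ B) ≤ k ^ k * (2 ^ (2 * X) * 4 ^ B) := by
      rw [pow_succ, mul_assoc, ← mul_assoc k]
      exact Nat.mul_le_mul_left _ (Nat.mul_le_mul_right _ hkns)
    exact lt_irrefl _ (hlow.trans_le (h1.trans (h2.trans hineq)))
  have hBk : ∀ p, k < p → u < p → (n.choose k).factorization p = 0 := fun p hp _ => eq_zero_of_large hs hp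
  rcases lt_or_ge n (6 * k) with h6 | h6
  · rcases lt_or_ge n (3 * k) with h3 | h3
    · have h24 : 24 * X ≤ u * u + 9 * u := by
        have := Nat.mul_le_mul_right (u + 9) h8
        rw [Nat.mul_assoc, Nat.mul_add u u 9] at this
        omega
      rcases lt_or_ge (2 * n) (5 * k) with h5 | h5
      · refine reduce (n / 3) (fun p hp hpu => ?_) ?_
        · rcases lt_or_ge k p with hkp | hkp
          · exact eq_zero_of_large hs hkp
          · exact Nat.factorization_choose_of_lt_three_mul (by omega) hkp (by omega) (by omega)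
        · have hexp := exp_a hu64 h24 hu2 h3 h5
          have e : 2 ^ (2 * X) * 4 ^ (n / 3) ≤ 4 ^ k := by
            rw [show (4 : ℕ) = 2 ^ 2 by norm_num, ← pow_mul, ← pow_mul, ← pow_add]
            exact Nat.pow_le_pow_right (by norm_num) hexp
          refine (Nat.mul_le_mul_left _ e).trans ?_
          calc k ^ k * 4 ^ k = 2 ^ k * (2 * k) ^ k := by
                rw [← mul_pow, ← mul_pow]; ring_nf
            _ ≤ 2 ^ k * n ^ k := Nat.mul_le_mul_left _ (Nat.pow_le_pow_left hn k)
      · refine reduce k hBk ?_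
        refine (Nat.mul_le_mul_left _ (four_pow_split (exp_b hu64 h24 hu2 h3))).trans ?_
        rw [← mul_pow, ← mul_pow]
        exact Nat.pow_le_pow_left (by omega) k
    · refine reduce k hBk ?_
      have h78 : 78 ≤ u := Nat.le_sqrt.2 (by omega)
      have h30 : 30 * X ≤ u * u + 9 * u := by
        have := Nat.mul_le_mul_right (u + 9) (h10 (by omega))
        rw [Nat.mul_assoc, Nat.mul_add u u 9] at this
        omega
      refine (Nat.mul_le_mul_left _ (sq_bound_b (exp_c h78 h30 hu2 h6))).trans ?_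
      rw [← mul_pow, ← mul_pow]
      exact Nat.pow_le_pow_left (by omega) k
  · refine reduce k hBk ?_
    have h110 : 110 ≤ u := Nat.le_sqrt.2 (by omega)
    have hu4 : u * u * (u * u) < k ^ 3 := by
      refine lt_of_le_of_lt ?_ hd
      rw [pow_two]
      exact Nat.mul_le_mul hu2 hu2
    have h4X := exp_d h110 hX3 hcube (by omega) hu4
    refine (Nat.mul_le_mul_left _ (sq_bound_d h4X)).trans ?_
    rw [← mul_pow, ← mul_pow]
    exact Nat.pow_le_pow_left (by omega) k

/-! ### The cases `k < 2048` -/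

/-- A primality test valid below `2116`. -/
def cand (p : ℕ) : Bool :=
  decide (2 ≤ p) && (List.range 44).all fun i => decide (p < (i + 2) * (i + 2)) || !(p % (i + 2) == 0)

theorem cand_iff {p : ℕ} (hp : p < 2116) : cand p = true ↔ p.Prime := by
  unfold cand
  simp only [Bool.and_eq_true, decide_eq_true_eq, List.all_eq_true, List.mem_range, Bool.or_eq_true,
    Bool.not_eq_true', beq_eq_false_iff_ne, ne_eq]
  constructor
  · rintro ⟨h2, h⟩
    by_contra hnp
    have h3 := Nat.minFac_prime (show p ≠ 1 by omega)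
    have hsq := Nat.minFac_sq_le_self (by omega : 0 < p) hnp
    have h46 : p.minFac < 46 := by nlinarith
    have h22 := h3.two_le
    rcases h (p.minFac - 2) (by omega) with h5 | h5
    · rw [Nat.sub_add_cancel h22, ← pow_two] at h5
      omega
    · rw [Nat.sub_add_cancel h22] at h5
      exact h5 (Nat.mod_eq_zero_of_dvd (Nat.minFac_dvd p) |>.trans rfl)
  · intro hp'
    refine ⟨hp'.two_le, fun i _ => ?_⟩
    by_cases h : p % (i + 2) = 0
    · left
      have := (Nat.dvd_prime hp').1 (Nat.dvd_of_mod_eq_zero h)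
      rcases this with h1 | h1
      · omega
      · nlinarith
    · exact Or.inr h

def ineq (k c n : ℕ) : Bool := decide (k ^ (k + 1) * n ^ c ≤ 2 ^ k * n ^ k)

/-- The test at `k`, given `c = pc k`. -/
def test (k c : ℕ) : Bool :=
  decide (k < 4) || (decide (c ≤ k) &&
    if k < 204 then ineq k c (2 * k + 33) && (List.range 33).all fun d =>
      ineq k c (2 * k + d) || (List.range k).any fun i => cand (2 * k + d - i)
    else ineq k c (2 * k))

def loop : ℕ → ℕ → ℕ → Bool
  | 0, _, _ => true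
  | f + 1, k, c => test k c && loop f (k + 1) (c + if cand (k + 1) then 1 else 0)

theorem loop_sound : ∀ f k, k + f ≤ 2048 → loop f k (pc k) = true →
    ∀ j, k ≤ j → j < k + f → test j (pc j) = true
  | 0, k, _, _, j, h1, h2 => absurd h2 (by omega)
  | f + 1, k, hb, h, j, h1, h2 => by
    simp only [loop, Bool.and_eq_true] at h
    rcases Nat.eq_or_lt_of_le h1 with rfl | h1'
    · exact h.1
    · have e : pc (k + 1) = pc k + if cand (k + 1) then 1 else 0 := by
        rw [pc_succ]
        congr 1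
        exact if_congr (cand_iff (by omega)).symm rfl rfl
      exact loop_sound f (k + 1) (by omega) (e ▸ h.2) j h1' (by omega)

theorem table : loop 2048 0 0 = true := by decide +kernel

theorem not_smooth_small {n k : ℕ} (h4 : 4 ≤ k) (hk : k < 2048) (hn : 2 * k ≤ n) : ¬ Smooth n k := by
  have h0 : pc 0 = 0 := by decide
  have h := loop_sound 2048 0 (by omega) (h0.symm ▸ table) k (Nat.zero_le _) (by omega)
  simp only [test, Bool.or_eq_true, decide_eq_true_eq, Bool.and_eq_true] at h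
  obtain ⟨hck, h⟩ := h.resolve_left (by omega)
  have key : ∀ n₀, n₀ ≤ n → 0 < n₀ → ineq k (pc k) n₀ = true → ¬ Smooth n k := fun n₀ hle hpos hi =>
    not_smooth_of_ineq h4 hn le_rfl (pow_sq_compare hck hle hpos (of_decide_eq_true hi))
  split_ifs at h with h204
  · simp only [Bool.and_eq_true, List.all_eq_true, List.mem_range, Bool.or_eq_true, List.any_eq_true] at h
    rcases lt_or_ge n (2 * k + 33) with hlt | hge
    · rcases h.2 (n - 2 * k) (by omega) with hi | ⟨i, hi, hc⟩
      · exact key _ (by omega) (by omega) hi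
      · rw [show 2 * k + (n - 2 * k) - i = n - i by omega, cand_iff (by omega)] at hc
        intro hs
        have := hs _ hc (hc.dvd_choose (by omega) (by omega) (by omega))
        omega
    · exact key _ hge (by omega) h.1
  · exact key _ hn (by omega) h

/-- Sylvester–Schur. -/
theorem sylvester_schur {n k : ℕ} (hk : 1 ≤ k) (hn : 2 * k ≤ n) :
    ∃ p : ℕ, p.Prime ∧ k < p ∧ p ∣ n.choose k := by
  suffices h : ¬ Smooth n k by
    unfold Smooth at h
    push Not at h
    obtain ⟨p, hp, hd, hlt⟩ := h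
    exact ⟨p, hp, hlt, hd⟩
  intro hs
  rcases lt_or_ge k 4 with h4 | h4
  · interval_cases k
    · rw [Smooth, Nat.choose_one_right] at hs
      have := hs _ (Nat.minFac_prime (by omega)) (Nat.minFac_dvd n)
      have := (Nat.minFac_prime (show n ≠ 1 by omega)).two_le
      omega
    · have h := choose_le_pow_pc hs (by omega) (by omega)
      rw [show pc 2 = 1 by decide, pow_one] at h
      have h2 := Nat.descFactorial_eq_factorial_mul_choose n 2
      obtain ⟨m, rfl⟩ := Nat.exists_eq_add_of_le (show 2 ≤ n by omega)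
      simp [Nat.descFactorial, Nat.factorial] at h2
      nlinarith
    · rcases lt_or_ge n 9 with h9 | h9
      · interval_cases n
        · exact absurd (hs 5 (by norm_num) (by decide)) (by norm_num)
        · exact absurd (hs 5 (by norm_num) (by decide)) (by norm_num)
        · exact absurd (hs 7 (by norm_num) (by decide)) (by norm_num)
      · have h := choose_le_pow_pc hs (by omega) (by omega)
        rw [show pc 3 = 2 by decide] at h
        obtain ⟨m, rfl⟩ : ∃ m, n = m + 9 := ⟨n - 9, by omega⟩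
        have h2 := Nat.descFactorial_eq_factorial_mul_choose (m + 9) 3
        rw [show (m + 9).descFactorial 3 = (m + 7) * ((m + 8) * (m + 9)) by
          simp [Nat.descFactorial_succ], show Nat.factorial 3 = 6 by rfl] at h2
        nlinarith [h, h2]
  · rcases lt_or_ge k 2048 with h | h
    · exact not_smooth_small h4 h hn hs
    · exact not_smooth_large h hn hs

end Cfsg.Agent.AltDerange
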