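import Mathlib
import Cfsg.Agent.AltDerange.SylvesterSchur
import Cfsg.Agent.S0713

/-!
Derangements of largest prime order in the coset actions of alternating and symmetric groups.
-/

set_option autoImplicit false

namespace Cfsg.Agent.AltDerange

open Equiv MulAction Subgroup Finset
open scoped Pointwise

variable {α : Type*} [Fintype α] [DecidableEq α]

/-- An element of order `r` of the alternating group has no conjugate in `H`. -/
def Deranged (H : Subgroup (Perm α)) (r : ℕ) : Prop :=
  ∃ σ ∈ alternatingGroup α, orderOf σ = r ∧ ∀ τ ∈ alternatingGroup α, τ * σ * τ⁻¹ ∉ H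

theorem orderOf_conj_eq {G : Type*} [Group G] (g x : G) : orderOf (g * x * g⁻¹) = orderOf x :=
  MulEquiv.orderOf_eq (MulAut.conj g) x

theorem exists_orderOf_relIndex {G : Type*} [Group G] [Finite G] {r : ℕ} (hr : r.Prime)
    {H A : Subgroup G} (hd : r ∣ H.relIndex A) : ∃ σ ∈ A, orderOf σ = r := by
  have : Fact r.Prime := ⟨hr⟩
  obtain ⟨x, hx⟩ := exists_prime_orderOf_dvd_card' (G := A) r
    (hd.trans (Subgroup.index_dvd_card (H.subgroupOf A)))
  exact ⟨x, x.2, by rw [Subgroup.orderOf_coe]; exact hx⟩

theorem deranged_of_free {H : Subgroup (Perm α)} {r : ℕ} (hr : r.Prime)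
    (hd : r ∣ H.relIndex (alternatingGroup α))
    (hH : ∀ g ∈ alternatingGroup α, g ∈ H → orderOf g ≠ r) : Deranged H r := by
  obtain ⟨σ, hσ, ho⟩ := exists_orderOf_relIndex hr hd
  exact ⟨σ, hσ, ho, fun τ hτ h => hH _ (mul_mem (mul_mem hτ hσ) (inv_mem hτ)) h
    ((orderOf_conj_eq τ σ).trans ho)⟩

theorem eq_of_pow_of_lt {M X : Type*} [Group M] [MulAction M X] {p : ℕ} (hp : p.Prime) {g : M}
    (hg : g ^ p = 1) {S : Finset X} (hS : ∀ x ∈ S, g • x ∈ S) (hlt : S.card < p) {x : X}
    (hx : x ∈ S) : g • x = x := by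
  have hper : period g x ∣ p :=
    pow_smul_eq_iff_period_dvd.1 (by rw [hg, one_smul])
  rcases (Nat.dvd_prime hp).1 hper with h | h
  · have := pow_period_smul g x
    rwa [h, pow_one] at this
  · exfalso
    have hmem : ∀ i : ℕ, g ^ i • x ∈ S := fun i => by
      induction i with
      | zero => rwa [pow_zero, one_smul]
      | succ i ih => rw [pow_succ', mul_smul]; exact hS _ ih
    have hcard : (Finset.range p).card ≤ S.card := by
      refine Finset.card_le_card_of_injOn (fun i => g ^ i • x) (fun i _ => hmem i) ?_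
      intro i hi j hj hij
      have hi' := Finset.mem_range.1 hi
      have hj' := Finset.mem_range.1 hj
      simp only at hij
      by_contra hne
      rcases Nat.lt_or_gt_of_ne hne with hl | hl
      · have e : g ^ (j - i) • x = x := by
          have : g ^ i • (g ^ (j - i) • x) = g ^ i • x := by
            rw [← mul_smul, ← pow_add, Nat.add_sub_cancel' hl.le]; exact hij.symm
          exact MulAction.injective _ this
        have := pow_smul_eq_iff_period_dvd.1 e
        rw [h] at this
        have := Nat.le_of_dvd (by omega) this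
        omega
      · have e : g ^ (i - j) • x = x := by
          have : g ^ j • (g ^ (i - j) • x) = g ^ j • x := by
            rw [← mul_smul, ← pow_add, Nat.add_sub_cancel' hl.le]; exact hij
          exact MulAction.injective _ this
        have := pow_smul_eq_iff_period_dvd.1 e
        rw [h] at this
        have := Nat.le_of_dvd (by omega) this
        omega
    rw [Finset.card_range] at hcard
    omega

/-- The cycle type `q` copies of `r`. -/
theorem exists_replicate {r q : ℕ} (hr : 2 ≤ r) (hle : q * r ≤ Fintype.card α) :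
    ∃ σ : Perm α, σ.cycleType = Multiset.replicate q r :=
  (Equiv.Perm.exists_with_cycleType_iff α).2
    ⟨by rw [Multiset.sum_replicate, smul_eq_mul]; exact hle,
      fun a ha => by rw [Multiset.eq_of_mem_replicate ha]; exact hr⟩

theorem orderOf_replicate {σ : Perm α} {r q : ℕ} (hr : r.Prime) (hq : 0 < q)
    (hσ : σ.cycleType = Multiset.replicate q r) : orderOf σ = r := by
  rw [← Equiv.Perm.lcm_cycleType, hσ]
  obtain ⟨q, rfl⟩ := Nat.exists_eq_add_of_le hq
  induction q with
  | zero => simp
  | succ q ih =>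
    rw [show 1 + (q + 1) = (1 + q) + 1 by ring, Multiset.replicate_succ, Multiset.lcm_cons]
    have : (Multiset.replicate (1 + q) r).lcm = r := by
      apply Nat.dvd_antisymm
      · exact Multiset.lcm_dvd.2 fun b hb => by rw [Multiset.eq_of_mem_replicate hb]
      · exact Multiset.dvd_lcm (Multiset.mem_replicate.2 ⟨by omega, rfl⟩)
    rw [this]
    exact Nat.lcm_self r

theorem mem_alt_replicate {σ : Perm α} {r q : ℕ} (h : r % 2 = 1 ∨ (r % 2 = 0 ∧ q % 2 = 0))
    (hσ : σ.cycleType = Multiset.replicate q r) : σ ∈ alternatingGroup α := by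
  rw [Equiv.Perm.mem_alternatingGroup, Equiv.Perm.sign_of_cycleType, hσ, Multiset.sum_replicate,
    Multiset.card_replicate, smul_eq_mul]
  apply Even.neg_one_pow
  rw [Nat.even_iff]
  rcases h with h | ⟨h1, h2⟩
  · rw [Nat.add_mod, Nat.mul_mod, h, mul_one, Nat.mod_mod]; omega
  · rw [Nat.add_mod, Nat.mul_mod, h2]; simp

/-- A set of size less than `r` invariant under a product of `r`-cycles consists of fixed points. -/
theorem invariant_le_fixed {σ : Perm α} {r q : ℕ} (hr : r.Prime)
    (hσ : σ.cycleType = Multiset.replicate q r) {s : Finset α} (hs : σ • s = s)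
    (hcard : s.card < r) : s.card + q * r ≤ Fintype.card α := by
  rcases Nat.eq_zero_or_pos q with rfl | hq
  · simpa using Finset.card_le_univ s
  have hpow : σ ^ r = 1 := by rw [← orderOf_replicate hr hq hσ]; exact pow_orderOf_eq_one σ
  have hdisj : Disjoint s σ.support := by
    rw [Finset.disjoint_left]
    intro x hx hx'
    refine Equiv.Perm.mem_support.1 hx' ?_
    refine eq_of_pow_of_lt (X := α) hr hpow (fun y hy => ?_) hcard hx
    have := Finset.smul_mem_smul_finset (a := σ) hy
    rwa [hs] at this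
  have h := Finset.card_union_of_disjoint hdisj
  rw [← Equiv.Perm.sum_cycleType, hσ, Multiset.sum_replicate, smul_eq_mul] at h
  have := Finset.card_le_univ (s ∪ σ.support)
  omega

variable {H : Subgroup (Perm α)}

/-- The hypotheses on `H`: the maximality of `H` among subgroups not containing the alternating
group, on intersections with the alternating group. -/
def IsMax (H : Subgroup (Perm α)) : Prop :=
  ¬ alternatingGroup α ≤ H ∧ ∀ L : Subgroup (Perm α), H ≤ L → ¬ alternatingGroup α ≤ L →
    L ⊓ alternatingGroup α ≤ H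

theorem alt_two_transitive_move {m : ℕ} (hm : Fintype.card α = m) (h3 : 3 ≤ m) (k : ℕ)
    (t u : Set.powersetCard α k) : ∃ σ ∈ alternatingGroup α, σ • t = u := by
  have := Set.powersetCard.isPretransitive_alternatingGroup (α := α) (n := k)
    (by rw [Nat.card_eq_fintype_card]; omega)
  obtain ⟨⟨σ, hσ⟩, h⟩ := MulAction.exists_smul_eq (alternatingGroup α) t u
  exact ⟨σ, hσ, h⟩

theorem deranged_intransitive (h5 : 5 ≤ Fintype.card α) (h6 : Fintype.card α ≠ 6) (hH : IsMax H)
    {s : Finset α} (hs1 : 1 ≤ s.card) (hs2 : 2 * s.card ≤ Fintype.card α)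
    (hinv : ∀ h ∈ H, h • s = s) {r : ℕ} (hr : r.Prime) (hd : r ∣ H.relIndex (alternatingGroup α))
    (hmax : ∀ q : ℕ, q.Prime → q ∣ H.relIndex (alternatingGroup α) → q ≤ r) : Deranged H r := by
  set m := Fintype.card α with hm
  set k := s.card with hk
  let t : Set.powersetCard α k := ⟨s, by simp [hk]⟩
  have htst : ∀ g : Perm α, g • t = t ↔ g • s = s := fun g => by
    rw [← Subtype.coe_inj, Set.powersetCard.coe_smul]
  have htrans := alt_two_transitive_move (α := α) rfl (by omega) k
  have hkm : 2 * k ≠ m := by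
    intro hkm
    obtain ⟨a, ha⟩ := Finset.card_pos.1 (show 0 < s.card by omega)
    obtain ⟨c, hc, hca⟩ := Finset.exists_mem_ne (show 1 < s.card by omega) a
    obtain ⟨b, hb⟩ := Finset.card_pos.1 (show 0 < sᶜ.card by rw [Finset.card_compl]; omega)
    rw [Finset.mem_compl] at hb
    set u := insert b (s.erase a) with hu
    have hucard : u.card = k := by
      rw [hu, Finset.card_insert_of_notMem (fun h => hb (Finset.mem_of_mem_erase h)),
        Finset.card_erase_of_mem ha]
      omega
    let L : Subgroup (Perm α) :=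
      { carrier := {g | g • s = s ∧ g • sᶜ = sᶜ ∨ g • s = sᶜ ∧ g • sᶜ = s}
        one_mem' := Or.inl ⟨one_smul _ _, one_smul _ _⟩
        mul_mem' := by
          rintro g h (⟨g1, g2⟩ | ⟨g1, g2⟩) (⟨h1, h2⟩ | ⟨h1, h2⟩)
          · exact Or.inl ⟨by rw [mul_smul, h1, g1], by rw [mul_smul, h2, g2]⟩
          · exact Or.inr ⟨by rw [mul_smul, h1, g2], by rw [mul_smul, h2, g1]⟩
          · exact Or.inr ⟨by rw [mul_smul, h1, g1], by rw [mul_smul, h2, g2]⟩
          · exact Or.inl ⟨by rw [mul_smul, h1, g2], by rw [mul_smul, h2, g1]⟩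
        inv_mem' := by
          rintro g (⟨g1, g2⟩ | ⟨g1, g2⟩)
          · exact Or.inl ⟨inv_smul_eq_iff.2 g1.symm, inv_smul_eq_iff.2 g2.symm⟩
          · exact Or.inr ⟨inv_smul_eq_iff.2 g2.symm, inv_smul_eq_iff.2 g1.symm⟩ }
    have hcompl : ∀ (g : Perm α) (v : Finset α), g • vᶜ = (g • v)ᶜ := fun g v => by
      ext y
      rw [Finset.mem_compl, ← Finset.inv_smul_mem_iff, ← Finset.inv_smul_mem_iff, Finset.mem_compl]
    have hLA : ¬ alternatingGroup α ≤ L := by
      intro hle
      obtain ⟨σ, hσ, hσu⟩ := htrans t ⟨u, by simp [hucard]⟩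
      have hσs : σ • s = u := by
        have := congrArg Subtype.val hσu
        rwa [Set.powersetCard.coe_smul] at this
      rcases hle hσ with ⟨h1, -⟩ | ⟨h1, -⟩
      · exact hb ((hσs.symm.trans h1) ▸ Finset.mem_insert_self b _)
      · have hcu : c ∈ u := Finset.mem_insert_of_mem (Finset.mem_erase.2 ⟨hca, hc⟩)
        rw [← hσs, h1, Finset.mem_compl] at hcu
        exact hcu hc
    obtain ⟨σ, hσ, hσu⟩ := htrans t ⟨sᶜ, by simp [Finset.card_compl]; omega⟩
    have hσs : σ • s = sᶜ := by
      have := congrArg Subtype.val hσu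
      rwa [Set.powersetCard.coe_smul] at this
    have hσL : σ ∈ L := Or.inr ⟨hσs, by rw [hcompl, hσs, compl_compl]⟩
    have hHL : H ≤ L := fun h hh => Or.inl ⟨hinv h hh, by rw [hcompl, hinv h hh]⟩
    have := hinv σ (hH.2 L hHL hLA ⟨hσL, hσ⟩)
    rw [hσs] at this
    have : a ∈ sᶜ := this.symm ▸ ha
    exact Finset.mem_compl.1 this ha
  -- `H ∩ A` is the stabiliser of `s` in `A`
  have hidx : H.relIndex (alternatingGroup α) = m.choose k := by
    set L := MulAction.stabilizer (Perm α) t with hL
    have hHL : H ≤ L := fun h hh => (htst h).2 (hinv h hh)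
    have hLA : ¬ alternatingGroup α ≤ L := by
      intro hle
      obtain ⟨a, ha⟩ := Finset.card_pos.1 (show 0 < s.card by omega)
      obtain ⟨b, hb⟩ := Finset.card_pos.1 (show 0 < sᶜ.card by rw [Finset.card_compl]; omega)
      rw [Finset.mem_compl] at hb
      have hucard : (insert b (s.erase a)).card = k := by
        rw [Finset.card_insert_of_notMem (fun h => hb (Finset.mem_of_mem_erase h)),
          Finset.card_erase_of_mem ha]
        omega
      obtain ⟨σ, hσ, hσu⟩ := htrans t ⟨insert b (s.erase a), by simp [hucard]⟩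
      have h1 : σ • t = t := hle hσ
      rw [h1] at hσu
      have h2 : s = insert b (s.erase a) := congrArg Subtype.val hσu
      exact hb (h2 ▸ Finset.mem_insert_self b _)
    have heq : H.subgroupOf (alternatingGroup α) = MulAction.stabilizer (alternatingGroup α) t := by
      ext g
      rw [Subgroup.mem_subgroupOf, MulAction.mem_stabilizer_iff]
      exact ⟨fun h => hHL h, fun h => hH.2 L hHL hLA ⟨h, g.2⟩⟩
    have := Set.powersetCard.isPretransitive_alternatingGroup (α := α) (n := k)
      (by rw [Nat.card_eq_fintype_card]; omega)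
    rw [Subgroup.relIndex, heq, MulAction.index_stabilizer_of_transitive, Set.powersetCard.card,
      Nat.card_eq_fintype_card]
  obtain ⟨p, hp, hkp, hpd⟩ := sylvester_schur hs1 hs2
  have hkr : k < r := lt_of_lt_of_le hkp (hmax p hp (hidx ▸ hpd))
  rw [hidx] at hd
  have hrm : r ≤ m := by
    have h1 : r ∣ m.factorial :=
      hd.trans (Dvd.intro (k.factorial * (m - k).factorial)
        (by rw [← mul_assoc]; exact Nat.choose_mul_factorial_mul_factorial (by omega)))
    exact hr.dvd_factorial.1 h1
  have hmod : m % r < k := by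
    by_contra hle
    have : Fact r.Prime := ⟨hr⟩
    have h1 : m.choose k ≡ (m % r).choose (k % r) * (m / r).choose (k / r) [MOD r] :=
      Choose.choose_modEq_choose_mod_mul_choose_div_nat
    rw [Nat.mod_eq_of_lt hkr, Nat.div_eq_of_lt hkr, Nat.choose_zero_right, mul_one] at h1
    have h2 : r ∣ (m % r).choose k := (Nat.modEq_zero_iff_dvd).1 (h1.symm.trans ((Nat.modEq_zero_iff_dvd).2 hd))
    have h3 : r ∣ (m % r).factorial :=
      h2.trans (Dvd.intro (k.factorial * (m % r - k).factorial)
        (by rw [← mul_assoc]; exact Nat.choose_mul_factorial_mul_factorial (by omega)))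
    have := hr.dvd_factorial.1 h3
    have := Nat.mod_lt m hr.pos
    omega
  have hq : 0 < m / r := Nat.div_pos hrm hr.pos
  obtain ⟨σ, hσ⟩ := exists_replicate (α := α) (r := r) (q := m / r) hr.two_le (Nat.div_mul_le_self m r)
  have hσA : σ ∈ alternatingGroup α := by
    refine mem_alt_replicate ?_ hσ
    rcases hr.eq_two_or_odd with h2 | h2
    · right
      refine ⟨by omega, ?_⟩
      have hk1 : k = 1 := by omega
      rw [hk1, Nat.choose_one_right] at hidx hd
      by_contra hodd
      have h2m : m % 2 = 0 := by rw [h2] at hd; omega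
      have hne1 : m / 2 ≠ 1 := by omega
      have hqp := Nat.minFac_prime hne1
      have h3 : (m / 2).minFac ∣ m := (Nat.minFac_dvd _).trans (Nat.div_dvd_of_dvd (h2 ▸ hd))
      have := hmax _ hqp (hidx ▸ h3)
      have h4 : (m / 2).minFac = 2 := le_antisymm (h2 ▸ this) hqp.two_le
      have h5 := Nat.minFac_dvd (m / 2)
      rw [h4] at h5
      rw [h2] at hodd
      omega
    · exact Or.inl h2
  refine ⟨σ, hσA, orderOf_replicate hr hq hσ, fun τ _ hmem => ?_⟩
  have h1 := invariant_le_fixed (σ := τ * σ * τ⁻¹) hr (by rw [Equiv.Perm.cycleType_conj, hσ])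
    (hinv _ hmem) hkr
  have h2 := Nat.div_add_mod m r
  rw [mul_comm] at h2
  omega

omit [DecidableEq α] in
theorem no_large_prime_of_block [IsPretransitive H α] {B : Set α} (hB : IsBlock H B)
    (hsub : ¬ B.Subsingleton) (huniv : B ≠ Set.univ) {p : ℕ} (hp : p.Prime)
    (hlt : Fintype.card α < 2 * p) (g : Perm α) (hg : g ∈ H) (hgp : g ^ p = 1) : g = 1 := by
  classical
  have hne : B.Nonempty := Set.nonempty_iff_ne_empty.2 fun h => hsub (h ▸ Set.subsingleton_empty)
  have hcard := hB.ncard_block_mul_ncard_orbit_eq hne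
  rw [Nat.card_eq_fintype_card] at hcard
  set a := B.ncard with ha
  set b := (orbit H B).ncard with hb
  have ha2 : 2 ≤ a := (Set.one_lt_ncard_iff_nontrivial).2 (Set.not_subsingleton_iff.1 hsub)
  have ham : a < Fintype.card α := by
    rw [ha, ← Nat.card_eq_fintype_card, ← Set.ncard_univ]
    exact Set.ncard_lt_ncard (Set.ssubset_univ_iff.2 huniv)
  have hb2 : 2 ≤ b := by
    rcases Nat.lt_or_ge b 2 with h | h
    · interval_cases b <;> omega
    · exact h
  have hap : a < p := by nlinarith
  have hbp : b < p := by nlinarith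
  have hfin : (orbit H B).Finite := Set.toFinite _
  set gg : H := ⟨g, hg⟩ with hgg
  have hggp : gg ^ p = 1 := Subtype.ext hgp
  have hfix : ∀ C ∈ orbit H B, gg • C = C := fun C hC =>
    eq_of_pow_of_lt (S := hfin.toFinset) hp hggp (fun D hD => by
      rw [Set.Finite.mem_toFinset] at hD ⊢
      exact MulAction.mem_orbit_of_mem_orbit gg hD)
      (by rw [← Set.ncard_eq_toFinset_card _ hfin]; exact hbp) (hfin.mem_toFinset.2 hC)
  refine Equiv.ext fun x => ?_
  obtain ⟨y, hy⟩ := hne
  obtain ⟨h, hh⟩ := MulAction.exists_smul_eq H y x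
  have hxC : x ∈ h • B := hh ▸ Set.smul_mem_smul_set hy
  have hC := hfix _ (MulAction.mem_orbit B h)
  have := eq_of_pow_of_lt (S := (h • B).toFinset) hp hggp (fun z hz => by
    rw [Set.mem_toFinset] at hz ⊢
    rw [← hC]
    exact Set.smul_mem_smul_set hz)
    (by rw [← Set.ncard_eq_toFinset_card', Set.ncard_smul_set]; exact hap) (Set.mem_toFinset.2 hxC)
  exact this

theorem two_mul_relIndex_mul (h1 : 1 < Fintype.card α) (H : Subgroup (Perm α)) :
    2 * (H.relIndex (alternatingGroup α) * Nat.card (H.subgroupOf (alternatingGroup α))) =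
      (Fintype.card α).factorial := by
  have : Nontrivial α := Fintype.one_lt_card_iff_nontrivial.1 h1
  rw [Subgroup.relIndex, Subgroup.index_mul_card, two_mul_nat_card_alternatingGroup,
    Nat.card_perm, Nat.card_eq_fintype_card]

theorem not_sq_dvd_factorial {r m : ℕ} (hr : r.Prime) (hlt : m < 2 * r) : ¬ r * r ∣ m.factorial := by
  intro h
  induction m with
  | zero =>
    rw [Nat.factorial_zero] at h
    have := Nat.le_of_dvd one_pos h
    nlinarith [hr.two_le]
  | succ m ih =>
    rw [Nat.factorial_succ] at h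
    by_cases hdvd : r ∣ m + 1
    · obtain ⟨c, hc⟩ := hdvd
      have hc1 : c = 1 := by
        rcases Nat.lt_or_ge c 2 with h' | h'
        · interval_cases c <;> simp_all
        · nlinarith
      rw [hc, hc1, mul_one] at h
      have := hr.dvd_factorial.1 (Nat.dvd_of_mul_dvd_mul_left hr.pos h)
      nlinarith
    · exact ih (by omega) ((((hr.coprime_iff_not_dvd.2 hdvd).mul_left
        (hr.coprime_iff_not_dvd.2 hdvd))).dvd_of_dvd_mul_left h)

theorem deranged_primitive (h5 : 5 ≤ Fintype.card α) (hH : IsMax H) (hprim : IsPreprimitive H α)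
    {r : ℕ} (hr : r.Prime) (hd : r ∣ H.relIndex (alternatingGroup α))
    (hmax : ∀ q : ℕ, q.Prime → q ∣ H.relIndex (alternatingGroup α) → q ≤ r) : Deranged H r := by
  set m := Fintype.card α with hm
  set K := H.subgroupOf (alternatingGroup α) with hK
  have hcard := two_mul_relIndex_mul (show 1 < Fintype.card α by omega) H
  by_cases hrK : r ∣ Nat.card K
  swap
  · refine deranged_of_free hr hd fun g hgA hgH ho => hrK ?_
    have hmem : (⟨g, hgA⟩ : alternatingGroup α) ∈ K := hgH
    have := orderOf_dvd_natCard (⟨⟨g, hgA⟩, hmem⟩ : K)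
    rwa [Subgroup.orderOf_mk, Subgroup.orderOf_mk, ho] at this
  have hrm : 2 * r ≤ m := by
    by_contra hlt
    exact not_sq_dvd_factorial (m := m) hr (by omega)
      (hcard ▸ Dvd.dvd.mul_left (mul_dvd_mul hd hrK) 2)
  rcases hr.eq_two_or_odd with h2 | h2
  · exfalso
    obtain ⟨c, hc⟩ := exists_replicate (α := α) (r := 3) (q := 1) (by norm_num) (by omega)
    have hc3 : c.IsThreeCycle := by rw [Equiv.Perm.IsThreeCycle, hc]; rfl
    have : Fact (Nat.Prime 3) := ⟨Nat.prime_three⟩
    have h3d : ¬ 3 ∣ K.index := fun h => by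
      have := hmax 3 Nat.prime_three h
      omega
    obtain ⟨S⟩ := (inferInstance : Nonempty (Sylow 3 K))
    set S' := (S : Subgroup K).map K.subtype with hS'
    have hS'p : IsPGroup 3 S' := S.2.map _
    have hS'idx : ¬ 3 ∣ S'.index := by
      have hcl := S.not_dvd_index
      have e : S'.index = (S : Subgroup K).index * K.index := by
        rw [hS', Subgroup.index_map_subtype]
      rw [e, Nat.prime_three.dvd_mul]
      tauto
    obtain ⟨P, hP⟩ := (show IsPGroup 3 (zpowers (⟨c, hc3.mem_alternatingGroup⟩ : alternatingGroup α)) by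
      refine IsPGroup.of_card (n := 1) ?_
      rw [Nat.card_zpowers, Subgroup.orderOf_mk, hc3.orderOf, pow_one]).exists_le_sylow
    obtain ⟨τ, hτ⟩ := MulAction.exists_smul_eq (alternatingGroup α) P (hS'p.toSylow hS'idx)
    have hmem : τ * ⟨c, hc3.mem_alternatingGroup⟩ * τ⁻¹ ∈ S' := by
      have := Subgroup.smul_mem_pointwise_smul _ (MulAut.conj τ) _ (hP (mem_zpowers _))
      rw [← Sylow.coe_subgroup_smul, hτ] at this
      simpa using this
    have hK' : τ * ⟨c, hc3.mem_alternatingGroup⟩ * τ⁻¹ ∈ K := Subgroup.map_subtype_le _ hmem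
    have h3' : ((τ : Perm α) * c * (τ : Perm α)⁻¹).IsThreeCycle := by
      rw [Equiv.Perm.IsThreeCycle, Equiv.Perm.cycleType_conj]; exact hc3
    exact hH.1 (Equiv.Perm.alternatingGroup_le_of_isPreprimitive_of_isThreeCycle_mem hprim h3' hK')
  · obtain ⟨σ, hσ⟩ := exists_replicate (α := α) (r := r) (q := 1) hr.two_le (by omega)
    refine ⟨σ, mem_alt_replicate (Or.inl h2) hσ, orderOf_replicate hr one_pos hσ, fun τ _ hmem => ?_⟩
    have ht : (τ * σ * τ⁻¹).cycleType = {r} := by
      rw [Equiv.Perm.cycleType_conj, hσ, Multiset.replicate_one]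
    refine hH.1 (Cfsg.Agent.S0713.result H hprim hr h5 (by omega) ?_ ?_ hmem)
    · rw [← Equiv.Perm.card_cycleType_eq_one, ht]; rfl
    · rw [← Equiv.Perm.sum_cycleType, ht]; simp

/-- The derangement in all cases other than degree six. -/
theorem deranged_main (h5 : 5 ≤ Fintype.card α) (h6 : Fintype.card α ≠ 6) (hH : IsMax H)
    {r : ℕ} (hr : r.Prime) (hd : r ∣ H.relIndex (alternatingGroup α))
    (hmax : ∀ q : ℕ, q.Prime → q ∣ H.relIndex (alternatingGroup α) → q ≤ r) : Deranged H r := by
  classical
  set m := Fintype.card α with hm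
  by_cases htr : IsPretransitive H α
  · by_cases hprim : IsPreprimitive H α
    · exact deranged_primitive h5 hH hprim hr hd hmax
    obtain ⟨B, hB, hsub, huniv⟩ : ∃ B : Set α, IsBlock H B ∧ ¬ B.Subsingleton ∧ B ≠ Set.univ := by
      by_contra hcon
      refine hprim { isTrivialBlock_of_isBlock := fun {B} hB => ?_ }
      by_contra hnt
      rw [MulAction.IsTrivialBlock, not_or] at hnt
      exact hcon ⟨B, hB, hnt.1, hnt.2⟩
    obtain ⟨p, hp, hp1, hp2⟩ := Nat.exists_prime_lt_and_le_two_mul (m / 2) (by omega)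
    have hpm : p ≤ m := by omega
    have hkey : ∀ q : ℕ, q.Prime → m < 2 * q → ∀ g : Perm α, g ∈ H → orderOf g ≠ q :=
      fun q hq hlt g hg ho => by
        have := no_large_prime_of_block hB hsub huniv hq hlt g hg (ho ▸ pow_orderOf_eq_one g)
        rw [this, orderOf_one] at ho
        exact hq.one_lt.ne ho
    have hcard := two_mul_relIndex_mul (show 1 < Fintype.card α by omega) H
    have hpi : p ∣ H.relIndex (alternatingGroup α) := by
      have h1 : p ∣ m.factorial := hp.dvd_factorial.2 hpm
      rw [hm, ← hcard] at h1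
      have hp3 : ¬ p ∣ 2 := fun h => by
        have := Nat.le_of_dvd two_pos h
        omega
      rcases hp.dvd_mul.1 ((hp.dvd_mul.1 h1).resolve_left hp3) with h | h
      · exact h
      · exfalso
        have : Fact p.Prime := ⟨hp⟩
        obtain ⟨x, hx⟩ := exists_prime_orderOf_dvd_card' p h
        refine hkey p hp (by omega) _ (x.2 : ((x : alternatingGroup α) : Perm α) ∈ H) ?_
        show orderOf (((x : alternatingGroup α) : Perm α)) = p
        rw [Subgroup.orderOf_coe, Subgroup.orderOf_coe, hx]
    have := hmax p hp hpi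
    exact deranged_of_free hr hd fun g _ hg => hkey r hr (by omega) g hg
  · obtain ⟨x, y, hy⟩ : ∃ x y : α, y ∉ orbit H x := by
      by_contra hcon
      push Not at hcon
      exact htr ⟨fun x y => hcon x y⟩
    set s := (orbit H x).toFinset with hs
    have hinv : ∀ h ∈ H, h • s = s := fun h hh => by
      ext z
      rw [← Finset.inv_smul_mem_iff, hs, Set.mem_toFinset, Set.mem_toFinset]
      refine ⟨fun hz => ?_, fun hz => MulAction.mem_orbit_of_mem_orbit (⟨h, hh⟩ : H)⁻¹ hz⟩
      have h1 : h • (h⁻¹ • z) ∈ orbit H x := MulAction.mem_orbit_of_mem_orbit (⟨h, hh⟩ : H) hz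
      rwa [smul_inv_smul] at h1
    have hinvc : ∀ h ∈ H, h • sᶜ = sᶜ := fun h hh => by
      ext z
      rw [← Finset.inv_smul_mem_iff, Finset.mem_compl, Finset.mem_compl]
      conv_rhs => rw [← hinv h hh, ← Finset.inv_smul_mem_iff]
    have hs0 : 1 ≤ s.card := Finset.card_pos.2 ⟨x, by simp [hs]⟩
    have hsc : sᶜ.card = m - s.card := Finset.card_compl s
    have hsm : 1 ≤ sᶜ.card := Finset.card_pos.2 ⟨y, by simp [hs, hy]⟩
    by_cases h2 : 2 * s.card ≤ m
    · exact deranged_intransitive h5 h6 hH hs0 h2 hinv hr hd hmax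
    · exact deranged_intransitive h5 h6 hH hsm (by omega) hinvc hr hd hmax

end Cfsg.Agent.AltDerange
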