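import Mathlib
import Cfsg.Agent.AltDerange.Basic
import Cfsg.Agent.SymSixRecog.Alt6

/-!
Derangements of largest prime order for the coset actions of the alternating group of degree six.
-/

set_option autoImplicit false

namespace Cfsg.Agent.AltDerange

open Equiv MulAction Subgroup

theorem deranged_six {H : Subgroup (Perm (Fin 6))} (hH : ¬ alternatingGroup (Fin 6) ≤ H) {r : ℕ}
    (hr : r.Prime) (hd : r ∣ H.relIndex (alternatingGroup (Fin 6)))
    (hmax : ∀ q : ℕ, q.Prime → q ∣ H.relIndex (alternatingGroup (Fin 6)) → q ≤ r) :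
    Deranged H r := by
  classical
  set K := H.subgroupOf (alternatingGroup (Fin 6)) with hK
  have hA : Nat.card (alternatingGroup (Fin 6)) = 360 := by
    have := two_mul_nat_card_alternatingGroup (α := Fin 6)
    rw [Nat.card_perm, Nat.card_eq_fintype_card (α := Fin 6), Fintype.card_fin] at this
    have : Nat.factorial 6 = 720 := rfl
    omega
  have hcard : K.index * Nat.card K = 360 := by rw [Subgroup.index_mul_card, hA]
  change r ∣ K.index at hd
  change ∀ q : ℕ, q.Prime → q ∣ K.index → q ≤ r at hmax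
  by_cases hrK : r ∣ Nat.card K
  swap
  · refine deranged_of_free hr hd fun g hgA hgH ho => hrK ?_
    have hmem : (⟨g, hgA⟩ : alternatingGroup (Fin 6)) ∈ K := hgH
    have := orderOf_dvd_natCard (⟨⟨g, hgA⟩, hmem⟩ : K)
    rwa [Subgroup.orderOf_mk, Subgroup.orderOf_mk, ho] at this
  have hsq : r * r ∣ 360 := hcard ▸ mul_dvd_mul hd hrK
  have hr23 : r = 2 ∨ r = 3 := by
    have : r ≤ 18 := by
      have := Nat.le_of_dvd (by norm_num) hsq
      nlinarith
    interval_cases r <;> first
      | exact Or.inl rfl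
      | exact Or.inr rfl
      | (norm_num at hsq; done)
      | (norm_num at hr; done)
  rcases hr23 with rfl | rfl
  · exfalso
    have : IsSimpleGroup (alternatingGroup (Fin 6)) := alternatingGroup.isSimpleGroup (by simp)
    have hKtop : K ≠ ⊤ := fun h => hH fun g hg => by
      have : (⟨g, hg⟩ : alternatingGroup (Fin 6)) ∈ K := h ▸ Subgroup.mem_top _
      exact this
    have h6 := SymSixRecog.six_le_index hA K hKtop
    have h3 : ¬ 3 ∣ K.index := fun h => by have := hmax 3 Nat.prime_three h; omega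
    have h5 : ¬ 5 ∣ K.index := fun h => by have := hmax 5 Nat.prime_five h; omega
    have hi8 : K.index = 8 := by
      have hdv : K.index ∣ 2 ^ 3 := by
        have h1 : K.index ∣ 8 * 45 := ⟨Nat.card K, hcard.symm⟩
        have hcop : K.index.Coprime 45 := by
          rw [show (45 : ℕ) = 3 ^ 2 * 5 by rfl]
          exact ((Nat.prime_three.coprime_iff_not_dvd.2 h3).symm.pow_right 2).mul_right
            (Nat.prime_five.coprime_iff_not_dvd.2 h5).symm
        exact hcop.dvd_of_dvd_mul_right h1
      have := Nat.le_of_dvd (by norm_num) hdv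
      obtain ⟨i, hi, he⟩ := (Nat.dvd_prime_pow Nat.prime_two).1 hdv
      interval_cases i <;> omega
    have h45 : Nat.card K = 45 := by rw [hi8] at hcard; omega
    have : Fact (Nat.Prime 5) := ⟨Nat.prime_five⟩
    obtain ⟨x, hx⟩ := exists_prime_orderOf_dvd_card' (G := K) 5 (by omega)
    have hx5 : orderOf (((x : alternatingGroup (Fin 6)) : Perm (Fin 6))) = 5 := by
      rw [Subgroup.orderOf_coe, Subgroup.orderOf_coe, hx]
    set g := ((x : alternatingGroup (Fin 6)) : Perm (Fin 6)) with hg
    obtain ⟨a, ha⟩ : ∃ a, g a ≠ a := by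
      by_contra hcon
      push Not at hcon
      rw [show g = 1 from Equiv.ext hcon, orderOf_one] at hx5
      omega
    have horb : ∀ {b}, b ∈ orbit K a → g b ∈ orbit K a := fun hb =>
      MulAction.mem_orbit_of_mem_orbit x hb
    have hsize : (orbit K a).ncard ∣ 45 := by
      rw [← MulAction.index_stabilizer, ← h45]
      exact Subgroup.index_dvd_card _
    have hge : 5 ≤ (orbit K a).ncard := by
      by_contra hlt
      refine ha (eq_of_pow_of_lt (X := Fin 6) Nat.prime_five
        (g := g) (hx5 ▸ pow_orderOf_eq_one g) (S := (orbit K a).toFinset) (fun b hb => ?_) ?_ ?_)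
      · rw [Set.mem_toFinset] at hb ⊢
        exact horb hb
      · rw [← Set.ncard_eq_toFinset_card']; omega
      · simp
    have hle : (orbit K a).ncard ≤ 6 := by
      have := Set.ncard_le_ncard (Set.subset_univ (orbit K a))
      rwa [Set.ncard_univ, Nat.card_eq_fintype_card, Fintype.card_fin] at this
    have h5' : (orbit K a).ncard = 5 := by
      rcases (show (orbit K a).ncard = 5 ∨ (orbit K a).ncard = 6 by omega) with h | h
      · exact h
      · rw [h] at hsize; norm_num at hsize
    have hc : ((orbit K a)ᶜ).ncard = 1 := by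
      rw [Set.ncard_compl, h5', Nat.card_eq_fintype_card, Fintype.card_fin]
    obtain ⟨b, hb⟩ := Set.ncard_eq_one.1 hc
    have hfix : K ≤ MulAction.stabilizer (alternatingGroup (Fin 6)) b := fun k hk => by
      by_contra hne
      have h1 : (⟨k, hk⟩ : K) • b ∈ orbit K a := by
        by_contra hnot
        have : (⟨k, hk⟩ : K) • b ∈ ({b} : Set (Fin 6)) := hb ▸ hnot
        exact hne this
      have h2 := MulAction.mem_orbit_of_mem_orbit (⟨k, hk⟩ : K)⁻¹ h1
      rw [inv_smul_smul] at h2
      have : b ∈ (orbit K a)ᶜ := by rw [hb]; exact Set.mem_singleton b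
      exact this h2
    have htr := alternatingGroup.isPretransitive_of_three_le_card (Fin 6) (by simp)
    have hst : (MulAction.stabilizer (alternatingGroup (Fin 6)) b).index = 6 := by
      rw [MulAction.index_stabilizer_of_transitive, Nat.card_eq_fintype_card, Fintype.card_fin]
    have h60 : Nat.card (MulAction.stabilizer (alternatingGroup (Fin 6)) b) = 60 := by
      have h := Subgroup.index_mul_card (MulAction.stabilizer (alternatingGroup (Fin 6)) b)
      rw [hst, hA] at h
      omega
    have := Subgroup.card_dvd_of_le hfix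
    rw [h45, h60] at this
    norm_num at this
  · obtain ⟨c1, hc1⟩ := exists_replicate (α := Fin 6) (r := 3) (q := 1) (by norm_num) (by simp)
    obtain ⟨c2, hc2⟩ := exists_replicate (α := Fin 6) (r := 3) (q := 2) (by norm_num) (by simp)
    have hA1 := mem_alt_replicate (Or.inl rfl) hc1
    have hA2 := mem_alt_replicate (Or.inl rfl) hc2
    have ho1 := orderOf_replicate Nat.prime_three one_pos hc1
    have ho2 := orderOf_replicate Nat.prime_three two_pos hc2
    by_contra hnd
    rw [Deranged] at hnd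
    push Not at hnd
    obtain ⟨t1, ht1, h1⟩ := hnd c1 hA1 ho1
    obtain ⟨t2, ht2, h2⟩ := hnd c2 hA2 ho2
    set g1 := t1 * c1 * t1⁻¹ with hg1
    set g2 := t2 * c2 * t2⁻¹ with hg2
    have hT1 : g1.cycleType = Multiset.replicate 1 3 := by rw [hg1, Equiv.Perm.cycleType_conj, hc1]
    have hT2 : g2.cycleType = Multiset.replicate 2 3 := by rw [hg2, Equiv.Perm.cycleType_conj, hc2]
    have hgA1 : g1 ∈ alternatingGroup (Fin 6) := mul_mem (mul_mem ht1 hA1) (inv_mem ht1)
    have hgA2 : g2 ∈ alternatingGroup (Fin 6) := mul_mem (mul_mem ht2 hA2) (inv_mem ht2)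
    set k1 : K := ⟨⟨g1, hgA1⟩, h1⟩ with hk1
    set k2 : K := ⟨⟨g2, hgA2⟩, h2⟩ with hk2
    have hk1o : orderOf k1 = 3 := by
      rw [← Subgroup.orderOf_coe, ← Subgroup.orderOf_coe]
      show orderOf g1 = 3
      rw [hg1, orderOf_conj_eq, ho1]
    have hk2o : orderOf k2 = 3 := by
      rw [← Subgroup.orderOf_coe, ← Subgroup.orderOf_coe]
      show orderOf g2 = 3
      rw [hg2, orderOf_conj_eq, ho2]
    have : Fact (Nat.Prime 3) := ⟨Nat.prime_three⟩
    have h9 : ¬ 9 ∣ Nat.card K := fun h => by
      have := hcard ▸ mul_dvd_mul hd h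
      norm_num at this
    have hsyl : ∀ k : K, orderOf k = 3 → ∀ S : Sylow 3 K, (k : K) ∈ (S : Subgroup K) →
        (S : Subgroup K) = zpowers k := fun k hk S hS => by
      refine (Subgroup.eq_of_le_of_card_ge (Subgroup.zpowers_le.2 hS) ?_).symm
      rw [Nat.card_zpowers, hk]
      obtain ⟨n, hn⟩ := IsPGroup.iff_card.1 S.2
      rw [hn]
      rcases Nat.lt_or_ge n 2 with h | h
      · exact (Nat.pow_le_pow_right (by norm_num) (by omega : n ≤ 1)).trans (pow_one 3).le
      · exact absurd ((pow_dvd_pow 3 h).trans (hn ▸ Subgroup.card_subgroup_dvd_card _)) h9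
    have hp : ∀ k : K, orderOf k = 3 → IsPGroup 3 (zpowers k) := fun k hk =>
      IsPGroup.of_card (n := 1) (by rw [Nat.card_zpowers, hk, pow_one])
    obtain ⟨S1, hS1⟩ := (hp k1 hk1o).exists_le_sylow
    obtain ⟨S2, hS2⟩ := (hp k2 hk2o).exists_le_sylow
    obtain ⟨u, hu⟩ := MulAction.exists_smul_eq K S1 S2
    have hmem := Subgroup.smul_mem_pointwise_smul _ (MulAut.conj u) _ (hS1 (mem_zpowers k1))
    rw [← Sylow.coe_subgroup_smul, hu, hsyl k2 hk2o S2 (hS2 (mem_zpowers k2)),
      Subgroup.mem_zpowers_iff] at hmem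
    obtain ⟨z, hz⟩ := hmem
    rw [← zpow_mod_orderOf, hk2o] at hz
    have hz' : (u : Perm (Fin 6)) * g1 * (u : Perm (Fin 6))⁻¹ = g2 ^ (z % ((3 : ℕ) : ℤ)) := by
      have := congrArg (fun y : K => ((y : alternatingGroup (Fin 6)) : Perm (Fin 6))) hz
      simpa using this.symm
    have hlt : z % ((3 : ℕ) : ℤ) < 3 := Int.emod_lt_of_pos _ (by norm_num)
    have hnn : 0 ≤ z % ((3 : ℕ) : ℤ) := Int.emod_nonneg _ (by norm_num)
    have hct := congrArg Equiv.Perm.cycleType hz'
    rw [Equiv.Perm.cycleType_conj, hT1] at hct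
    have hpow2 : g2 ^ (2 : ℤ) = g2⁻¹ := by
      rw [eq_inv_iff_mul_eq_one]
      show g2 ^ (2 : ℤ) * g2 = 1
      rw [← zpow_add_one, show ((2 : ℤ) + 1) = ((3 : ℕ) : ℤ) by norm_num, zpow_natCast, ← ho2,
        ← orderOf_conj_eq t2 c2]
      exact pow_orderOf_eq_one _
    generalize z % ((3 : ℕ) : ℤ) = i at *
    interval_cases i
    · simp at hct
    · rw [zpow_one, hT2] at hct
      simp at hct
    · rw [hpow2, Equiv.Perm.cycleType_inv, hT2] at hct
      simp at hct

end Cfsg.Agent.AltDerange
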